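import Groth.Agent.HorizCartier96.Main

/-!
# Horizontal divisors with a prescribed equation
-/

set_option autoImplicit false
universe u
open AlgebraicGeometry CategoryTheory CategoryTheory.Limits IsLocalRing TopologicalSpace
variable {R : Type u} [CommRing R] [IsDomain R] [IsDiscreteValuationRing R]

namespace Groth.Agent.HorizPrescribed38
open Groth.Agent.HorizCartier96

/-- An effective Cartier divisor with a prescribed equation at a point of the closed fibre. -/
theorem exists_divisor [HenselianLocalRing R] {X : Scheme.{u}} [IsIntegral X]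
    (f : X ⟶ Spec (CommRingCat.of R)) [IsProper f] [Flat f] (x : X) (hxs : f.base x = closedPoint R)
    (U : X.Opens) (hU : IsAffineOpen U) (hxU : x ∈ U) (a : Γ(X, U)) (ha0 : a ≠ 0)
    (hax : ¬ IsUnit (X.presheaf.germ U x hxU a))
    (hiso : ∀ z (hz : z ∈ U), f.base z = closedPoint R → ¬ IsUnit (X.presheaf.germ U z hz a) → z = x) :
    ∃ (D : Scheme.{u}) (d : D ⟶ X), IsClosedImmersion d ∧ BlowUp.IsEffCartierIdeal d.ker ∧
      Set.range d.base ∩ f.base ⁻¹' {closedPoint R} = {x} ∧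
      ∃ (V : X.affineOpens) (hV : x ∈ V.1) (hVU : V.1 ≤ U),
        d.ker.ideal V = Ideal.span {X.presheaf.map (homOfLE hVU).op a} := by
  classical
  obtain ⟨φ, hft, hφ⟩ := chart_hom f U hU
  letI := φ.toAlgebra
  haveI : Algebra.FiniteType R Γ(X, U) := hft
  haveI : IsNoetherianRing Γ(X, U) := Algebra.FiniteType.isNoetherianRing R _
  haveI : Nonempty U := ⟨⟨x, hxU⟩⟩
  obtain ⟨π, hπ⟩ := IsDiscreteValuationRing.exists_irreducible R
  have hfz : ∀ z : PrimeSpectrum Γ(X, U),
      f.base (hU.fromSpec z) = PrimeSpectrum.comap φ z := fun z => by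
    show (hU.fromSpec ≫ f) z = _
    rw [← hφ]; rfl
  have hπiff : ∀ z : PrimeSpectrum Γ(X, U),
      f.base (hU.fromSpec z) = closedPoint R ↔ φ π ∈ z.asIdeal := by
    intro z
    constructor
    · intro h
      show π ∈ (PrimeSpectrum.comap φ z).asIdeal
      rw [← hfz, h]
      show π ∈ maximalIdeal R
      rw [hπ.maximalIdeal_eq]
      exact Ideal.mem_span_singleton_self π
    · intro h
      refine (closedPoint_or_eq_bot _).resolve_right fun e => hπ.ne_zero ?_
      have h' : π ∈ (PrimeSpectrum.comap φ z).asIdeal := h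
      rwa [← hfz, e, Ideal.mem_bot] at h'
  have hinjpt := hU.fromSpec.isOpenEmbedding.injective
  set q := hU.primeIdealOf ⟨x, hxU⟩ with hq
  have hq' : hU.fromSpec q = x := hU.fromSpec_primeIdealOf _
  have hgermiff : ∀ (z : X) (hz : z ∈ U), IsUnit (X.presheaf.germ U z hz a) ↔ a ∉ (hU.primeIdealOf ⟨z, hz⟩).asIdeal := by
    intro z hz
    rw [← Scheme.mem_basicOpen _ _ z hz, iff_comm]
    show hU.primeIdealOf ⟨z, hz⟩ ∈ PrimeSpectrum.basicOpen a ↔ _
    rw [← hU.fromSpec_preimage_basicOpen a]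
    show hU.fromSpec (hU.primeIdealOf ⟨z, hz⟩) ∈ X.basicOpen a ↔ _
    rw [hU.fromSpec_primeIdealOf]
  have haq : a ∈ q.asIdeal := not_not.mp fun h => hax ((hgermiff x hxU).mpr h)
  let mk : Γ(X, U) ⟶ CommRingCat.of (Γ(X, U) ⧸ Ideal.span {a}) :=
    CommRingCat.ofHom (Ideal.Quotient.mk (Ideal.span {a}))
  haveI : IsClosedImmersion (Spec.map mk) :=
    IsClosedImmersion.spec_of_surjective mk Ideal.Quotient.mk_surjective
  let e := Spec.map mk ≫ hU.fromSpec
  haveI : IsPreimmersion e := inferInstanceAs (IsPreimmersion (Spec.map mk ≫ hU.fromSpec))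
  haveI : LocallyOfFiniteType e := inferInstanceAs (LocallyOfFiniteType (Spec.map mk ≫ hU.fromSpec))
  haveI : IsSeparated (e ≫ f) := inferInstance
  haveI : QuasiCompact (e ≫ f) := inferInstance
  haveI : QuasiCompact e := QuasiCompact.of_comp e f
  let ptI : Spec (CommRingCat.of (Γ(X, U) ⧸ Ideal.span {a})) → PrimeSpectrum Γ(X, U) :=
    fun z => PrimeSpectrum.comap mk.hom z
  have hept : ∀ z, e z = hU.fromSpec (ptI z) := fun z => rfl
  have haI : ∀ z, a ∈ (ptI z).asIdeal := fun z => by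
    show mk.hom a ∈ z.asIdeal
    rw [show mk.hom a = 0 from Ideal.Quotient.eq_zero_iff_mem.2 (Ideal.mem_span_singleton_self a)]
    exact zero_mem _
  have hptinj : Function.Injective ptI :=
    PrimeSpectrum.comap_injective_of_surjective _ Ideal.Quotient.mk_surjective
  have hlift : ∀ P : PrimeSpectrum Γ(X, U), a ∈ P.asIdeal → ∃ z, ptI z = P := by
    intro P hP
    have h : P ∈ Set.range (PrimeSpectrum.comap (Ideal.Quotient.mk (Ideal.span {a}))) := by
      rw [range_comap_of_surjective _ _ Ideal.Quotient.mk_surjective, PrimeSpectrum.mem_zeroLocus,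
        Ideal.mk_ker]
      exact (Ideal.span_singleton_le_iff_mem _).2 hP
    exact h
  have honlyZ : ∀ z, f.base (e z) = closedPoint R → ptI z = q := by
    intro z hz
    have hzU : hU.fromSpec (ptI z) ∈ U := hU.range_fromSpec.le ⟨_, rfl⟩
    refine hinjpt ((hiso _ hzU (by rw [← hept]; exact hz) fun hu => ?_).trans hq'.symm)
    exact (hgermiff _ hzU).mp hu (by
      rw [hinjpt (hU.fromSpec_primeIdealOf ⟨_, hzU⟩)]
      exact haI z)
  obtain ⟨zq, hzq⟩ := hlift q haq
  have hzqs : f.base (e zq) = closedPoint R := by rw [hept, hzq, hq']; exact hxs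
  haveI : LocallyOfFiniteType (e ≫ f) := inferInstance
  have hzqO : zq ∈ (e ≫ f).quasiFiniteLocus := by
    rw [Scheme.Hom.mem_quasiFiniteLocus, Scheme.Hom.quasiFiniteAt_iff_isOpen_singleton_asFiber,
      ← ((e ≫ f).fiberHomeo ((e ≫ f) zq)).isOpen_image, Set.image_singleton]
    convert isOpen_univ
    ext ⟨z, hz⟩
    simp only [Set.mem_univ, iff_true, Set.mem_singleton_iff, Scheme.Hom.asFiber,
      Homeomorph.apply_symm_apply, Subtype.mk.injEq]
    exact hptinj ((honlyZ z ((show f.base (e z) = f.base (e zq) from hz).trans hzqs)).trans hzq.symm)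
  let O : (Spec (CommRingCat.of (Γ(X, U) ⧸ Ideal.span {a}))).Opens := (e ≫ f).quasiFiniteLocus
  let h : O.toScheme ⟶ Spec (CommRingCat.of R) := O.ι ≫ (e ≫ f)
  haveI : LocallyQuasiFinite h := inferInstanceAs (LocallyQuasiFinite ((e ≫ f).quasiFiniteLocus.ι ≫ (e ≫ f)))
  haveI : LocallyOfFiniteType h := inferInstanceAs (LocallyOfFiniteType (O.ι ≫ (e ≫ f)))
  haveI : IsSeparated h := inferInstanceAs (IsSeparated (O.ι ≫ (e ≫ f)))
  haveI : NoetherianSpace ↥(Spec (CommRingCat.of (Γ(X, U) ⧸ Ideal.span {a}))) :=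
    inferInstanceAs (NoetherianSpace (PrimeSpectrum (Γ(X, U) ⧸ Ideal.span {a})))
  haveI : CompactSpace O.toScheme := isCompact_iff_compactSpace.mp
    (TopologicalSpace.NoetherianSpace.isCompact (O : Set ↥(Spec (CommRingCat.of (Γ(X, U) ⧸ Ideal.span {a})))))
  haveI : QuasiCompact h := quasiCompact_of_compactSpace h
  obtain ⟨Wo, -, hWfin', hWmem⟩ := Hens.FinPart.exists_finPart h
  haveI := hWfin'
  let j : Wo.toScheme ⟶ Spec (CommRingCat.of (Γ(X, U) ⧸ Ideal.span {a})) := Wo.ι ≫ O.ι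
  haveI : IsOpenImmersion j := inferInstanceAs (IsOpenImmersion (Wo.ι ≫ O.ι))
  let d : Wo.toScheme ⟶ X := j ≫ e
  have hdf : d ≫ f = Wo.ι ≫ h := by simp only [d, j, h, Category.assoc]
  haveI : IsPreimmersion d := inferInstanceAs (IsPreimmersion (j ≫ e))
  haveI : IsFinite (d ≫ f) := by rw [hdf]; infer_instance
  haveI : IsProper (d ≫ f) := inferInstance
  haveI : IsProper d := IsProper.of_comp d f
  haveI hci : IsClosedImmersion d := .of_isPreimmersion d d.isClosedMap.isClosed_range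
  have hdpt : ∀ w : Wo.toScheme, d w = hU.fromSpec (ptI (j w)) := fun w => rfl
  have hzqW : (⟨zq, hzqO⟩ : O.toScheme) ∈ Wo := hWmem _ hzqs
  let px : Wo.toScheme := ⟨⟨zq, hzqO⟩, hzqW⟩
  have hpx : d px = x := by rw [hdpt]; show hU.fromSpec (ptI zq) = x; rw [hzq, hq']
  have hloc : ∀ w : Wo.toScheme, ∃ (V : X.affineOpens) (_ : d w ∈ V.1) (hVU : V.1 ≤ U) (g' : Γ(X, V.1)),
      g' ∈ nonZeroDivisors Γ(X, V.1) ∧ g' = X.presheaf.map (homOfLE hVU).op a ∧ d.ker.ideal V = Ideal.span {g'} := by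
    intro w
    obtain ⟨G, hG, hGe⟩ := e.isEmbedding.isInducing.isOpen_iff.1 j.isOpenEmbedding.isOpen_range
    have hwG : d w ∈ G := by
      show j w ∈ e.base ⁻¹' G
      rw [hGe]; exact ⟨w, rfl⟩
    have hwU : d w ∈ U := by
      rw [hdpt]
      exact hU.range_fromSpec.le ⟨_, rfl⟩
    obtain ⟨k, hkle, hwk⟩ := hU.exists_basicOpen_le (V := ⟨G, hG⟩) ⟨d w, hwG⟩ hwU
    refine ⟨X.affineBasicOpen k (U := ⟨U, hU⟩), hwk, X.basicOpen_le k,
      X.presheaf.map (homOfLE (X.basicOpen_le k)).op a, ?_, rfl, ?_⟩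
    · haveI : Nonempty (X.basicOpen k) := ⟨⟨d w, hwk⟩⟩
      haveI : IsDomain Γ(X, (X.affineBasicOpen k (U := ⟨U, hU⟩)).1) := IsIntegral.component_integral (X.basicOpen k)
      refine mem_nonZeroDivisors_of_ne_zero fun e0 => ha0 ?_
      exact map_injective_of_isIntegral X (homOfLE (X.basicOpen_le k))
        (e0.trans (map_zero _).symm)
    · have hle : e ⁻¹ᵁ X.basicOpen k ≤ j.opensRange := fun z hz => by
        have : z ∈ e.base ⁻¹' G := hkle hz
        rw [hGe] at this
        exact this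
      show (j ≫ e).ker.ideal _ = _
      rw [ker_ideal_comp_openImmersion j e _ hle,
        ← e.ker.map_ideal (U := X.affineBasicOpen k (U := ⟨U, hU⟩)) (V := ⟨U, hU⟩) (X.basicOpen_le k),
        ker_ideal_fromSpec U hU mk, CommRingCat.hom_ofHom, Ideal.mk_ker, Ideal.map_span,
        Set.image_singleton]
      rfl
  refine ⟨Wo.toScheme, d, hci, ?_, ?_, ?_⟩
  · intro y
    by_cases hy : y ∈ Set.range d.base
    · obtain ⟨w, rfl⟩ := hy
      obtain ⟨V, hwV, hVU, g', hg', hVe⟩ := hloc w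
      exact ⟨V, hwV, g', hg', hVe.2⟩
    · obtain ⟨_, ⟨V, hV, rfl⟩, hyV, hVsub⟩ := X.isBasis_affineOpens.exists_subset_of_mem_open
        (Set.mem_compl hy) d.isClosedEmbedding.isClosed_range.isOpen_compl
      refine ⟨⟨V, hV⟩, hyV, 1, one_mem _, ?_⟩
      have hbot : d ⁻¹ᵁ V = ⊥ := by
        refine le_bot_iff.1 fun w hw => ?_
        exact absurd ⟨w, rfl⟩ (hVsub hw)
      haveI : Subsingleton Γ(Wo.toScheme, d ⁻¹ᵁ V) := by rw [hbot]; infer_instance
      rw [Scheme.Hom.ker_apply, Ideal.span_singleton_one]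
      exact eq_top_iff.2 fun s _ => RingHom.mem_ker.2 (Subsingleton.elim _ _)
  · ext y
    constructor
    · rintro ⟨⟨w, rfl⟩, hw⟩
      show d w = x
      exact (hdpt w).trans ((congrArg hU.fromSpec (honlyZ (j w) hw)).trans hq')
    · rintro rfl
      exact ⟨⟨px, hpx⟩, hxs⟩
  · obtain ⟨V, hV, hVU, g', -, rfl, he⟩ := hloc px
    exact ⟨V, hpx ▸ hV, hVU, he⟩

end Groth.Agent.HorizPrescribed38
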